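import Groth.Prelude.Def_GrLC
import Groth.Agent.RegLoc6.Basic
import Groth.Agent.RegLoc6.Serre
import Mathlib.RingTheory.Ideal.GoingUp
import Mathlib.RingTheory.GradedAlgebra.Basic
import Mathlib.Algebra.DualNumber
import Mathlib.Algebra.Polynomial.Laurent
import Mathlib.RingTheory.AdjoinRoot
import Mathlib.RingTheory.RegularLocalRing.Polynomial

/-!
Regular graded rings with local degree zero part and a unit `t` of positive degree `N`, no unit in
degrees prime to `N`: `R/(t - 1)` is regular local and `R[U]/(U^N - t)` is a Laurent ring over it.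
-/

set_option autoImplicit false
set_option linter.style.haveILetI false

universe u

open DirectSum IsLocalRing

namespace Groth.Agent.GrUnit

variable {R : Type u} [CommRing R] (𝒜 : ℤ → AddSubgroup R) [GradedRing 𝒜]

section OfPieces

variable {S : Type*} [CommRing S] (f : ∀ i, 𝒜 i →+ S)
  (h1 : f 0 ⟨1, SetLike.GradedOne.one_mem⟩ = 1)
  (hmul : ∀ {i j} (a : 𝒜 i) (b : 𝒜 j), f (i + j) ⟨a.1 * b.1, SetLike.mul_mem_graded a.2 b.2⟩ = f i a * f j b)

/-- A ring map given on the homogeneous pieces. -/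
noncomputable def ofPieces : R →+* S :=
  (DirectSum.toSemiring (A := fun i => 𝒜 i) f h1 (fun a b => hmul a b)).comp (decomposeRingEquiv 𝒜).toRingHom

theorem ofPieces_apply {i : ℤ} {a : R} (ha : a ∈ 𝒜 i) : ofPieces 𝒜 f h1 hmul a = f i ⟨a, ha⟩ := by
  change DirectSum.toSemiring (A := fun i => 𝒜 i) f h1 (fun a b => hmul a b) (decompose 𝒜 a) = _
  rw [decompose_of_mem 𝒜 ha, toSemiring_of]

end OfPieces

/-- A ring map out of a graded ring is determined on homogeneous elements. -/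
theorem ringHom_ext {S : Type*} [CommRing S] {φ ψ : R →+* S} (h : ∀ i, ∀ a ∈ 𝒜 i, φ a = ψ a) : φ = ψ := by
  classical
  refine RingHom.ext fun x => ?_
  rw [← sum_support_decompose 𝒜 x, map_sum, map_sum]
  exact Finset.sum_congr rfl fun i _ => h i _ (decompose 𝒜 x i).2

variable {N : ℕ} {t : R} (ht : t ∈ 𝒜 (N : ℤ)) (htu : IsUnit t)

include ht in
theorem inv_mem : ((htu.unit⁻¹ : Rˣ) : R) ∈ 𝒜 (-(N : ℤ)) := by
  classical
  set s : R := ((htu.unit⁻¹ : Rˣ) : R) with hs
  have hts : t * s = 1 := htu.mul_val_inv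
  have h2 : t * (decompose 𝒜 s (-(N : ℤ)) : R) = 1 := by
    have h := coe_decompose_mul_add_of_left_mem 𝒜 (j := -(N : ℤ)) (b := s) ht
    rw [hts, add_neg_cancel, decompose_of_mem_same 𝒜 SetLike.GradedOne.one_mem] at h
    exact h.symm
  have : (decompose 𝒜 s (-(N : ℤ)) : R) = s := htu.mul_left_cancel (h2.trans hts.symm)
  exact this ▸ (decompose 𝒜 s (-(N : ℤ))).2

include ht in
theorem zpow_mem (k : ℤ) : ((htu.unit ^ k : Rˣ) : R) ∈ 𝒜 ((N : ℤ) * k) := by
  obtain ⟨n, rfl | rfl⟩ := k.eq_nat_or_neg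
  · rw [zpow_natCast, Units.val_pow_eq_pow_val, mul_comm]
    simpa using SetLike.pow_mem_graded n ht
  · rw [zpow_neg, zpow_natCast, ← inv_pow, Units.val_pow_eq_pow_val]
    have := SetLike.pow_mem_graded n (inv_mem 𝒜 ht htu)
    convert this using 2
    simp [mul_comm]

include ht in
/-- Normalisation of a homogeneous element to degree zero. -/
theorem normalize_mem {i : ℤ} (h : (N : ℤ) ∣ i) {a : R} (ha : a ∈ 𝒜 i) :
    a * ((htu.unit ^ (-(i / (N : ℤ))) : Rˣ) : R) ∈ GrLC.deg0 𝒜 := by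
  have := SetLike.mul_mem_graded ha (zpow_mem 𝒜 ht htu (-(i / (N : ℤ))))
  rw [mul_neg, Int.mul_ediv_cancel' h, add_neg_cancel] at this
  exact this

include htu in
theorem minimal_of_least (hN : 0 < N) (ht' : t ∈ 𝒜 (N : ℤ))
    (hmin : ∀ (n : ℤ), 0 < n → n < (N : ℤ) → ∀ s ∈ 𝒜 n, ¬ IsUnit s) {i : ℤ} (hi : ¬ (N : ℤ) ∣ i) {a : R}
    (ha : a ∈ 𝒜 i) : ¬ IsUnit a := by
  intro hu
  have hN' : (N : ℤ) ≠ 0 := by omega
  have h0 : 0 < i % (N : ℤ) := lt_of_le_of_ne (Int.emod_nonneg _ hN') fun h => hi (Int.dvd_of_emod_eq_zero h.symm)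
  refine hmin (i % (N : ℤ)) h0 (Int.emod_lt_of_pos _ (by omega)) (a * ((htu.unit ^ (-(i / (N : ℤ))) : Rˣ) : R)) ?_
    (hu.mul (Units.isUnit _))
  have := SetLike.mul_mem_graded ha (zpow_mem 𝒜 ht' htu (-(i / (N : ℤ))))
  convert this using 2
  rw [mul_neg, Int.emod_def, sub_eq_add_neg]

variable [IsLocalRing (GrLC.deg0 𝒜)]

/-- The residue of a homogeneous element. -/
noncomputable def resPiece (i : ℤ) : 𝒜 i →+ ResidueField (GrLC.deg0 𝒜) :=
  if h : (N : ℤ) ∣ i then
    { toFun := fun a => residue _ ⟨_, normalize_mem 𝒜 ht htu h a.2⟩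
      map_zero' := by
        rw [← map_zero (residue (GrLC.deg0 𝒜))]
        exact congrArg _ (Subtype.ext (by simp))
      map_add' := fun a b => by
        rw [← map_add]
        exact congrArg _ (Subtype.ext (by simp [add_mul])) }
  else 0

theorem resPiece_of_dvd {i : ℤ} (h : (N : ℤ) ∣ i) (a : 𝒜 i) :
    resPiece 𝒜 ht htu i a = residue _ (⟨_, normalize_mem 𝒜 ht htu h a.2⟩ : GrLC.deg0 𝒜) := by
  rw [resPiece, dif_pos h]; rfl

theorem resPiece_of_not {i : ℤ} (h : ¬ (N : ℤ) ∣ i) (a : 𝒜 i) : resPiece 𝒜 ht htu i a = 0 := by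
  rw [resPiece, dif_neg h]; rfl

theorem resPiece_one : resPiece 𝒜 ht htu 0 ⟨1, SetLike.GradedOne.one_mem⟩ = 1 := by
  rw [resPiece_of_dvd 𝒜 ht htu (dvd_zero _), ← map_one (residue (GrLC.deg0 𝒜))]
  exact congrArg _ (Subtype.ext (by simp))

variable (hnu : ∀ (i : ℤ), ¬ (N : ℤ) ∣ i → ∀ a ∈ 𝒜 i, ¬ IsUnit a)

include hnu in
theorem resPiece_mul {i j : ℤ} (a : 𝒜 i) (b : 𝒜 j) :
    resPiece 𝒜 ht htu (i + j) ⟨a.1 * b.1, SetLike.mul_mem_graded a.2 b.2⟩ =
      resPiece 𝒜 ht htu i a * resPiece 𝒜 ht htu j b := by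
  by_cases hij : (N : ℤ) ∣ i + j
  · by_cases hi : (N : ℤ) ∣ i
    · have hj : (N : ℤ) ∣ j := (dvd_add_right hi).1 hij
      rw [resPiece_of_dvd 𝒜 ht htu hij, resPiece_of_dvd 𝒜 ht htu hi, resPiece_of_dvd 𝒜 ht htu hj, ← map_mul]
      refine congrArg _ (Subtype.ext ?_)
      simp only [Subring.coe_mul]
      rw [Int.add_ediv_of_dvd_left hi, neg_add, zpow_add, Units.val_mul]
      ring
    · rw [resPiece_of_not 𝒜 ht htu hi, zero_mul, resPiece_of_dvd 𝒜 ht htu hij, residue_eq_zero_iff]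
      intro hu
      have hu' := hu.map (GrLC.deg0 𝒜).subtype
      simp only [Subring.subtype_apply] at hu'
      exact hnu i hi a a.2 (isUnit_of_mul_isUnit_left (isUnit_of_mul_isUnit_left hu'))
  · rw [resPiece_of_not 𝒜 ht htu hij]
    by_cases hi : (N : ℤ) ∣ i
    · rw [resPiece_of_not 𝒜 ht htu (fun hj => hij (dvd_add hi hj)), mul_zero]
    · rw [resPiece_of_not 𝒜 ht htu hi, zero_mul]

/-- The residue map of `R`. -/
noncomputable def χ : R →+* ResidueField (GrLC.deg0 𝒜) :=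
  ofPieces 𝒜 (resPiece 𝒜 ht htu) (resPiece_one 𝒜 ht htu) (resPiece_mul 𝒜 ht htu hnu)

/-- The first order pieces. -/
noncomputable def dualPiece (i : ℤ) : 𝒜 i →+ DualNumber (ResidueField (GrLC.deg0 𝒜)) where
  toFun a := TrivSqZeroExt.inl (resPiece 𝒜 ht htu i a) +
    TrivSqZeroExt.inr (((i / (N : ℤ) : ℤ) : ResidueField (GrLC.deg0 𝒜)) * resPiece 𝒜 ht htu i a)
  map_zero' := by simp
  map_add' a b := by simp only [map_add, mul_add, TrivSqZeroExt.inl_add, TrivSqZeroExt.inr_add]; abel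

include hnu in
theorem dualPiece_mul {i j : ℤ} (a : 𝒜 i) (b : 𝒜 j) :
    dualPiece 𝒜 ht htu (i + j) ⟨a.1 * b.1, SetLike.mul_mem_graded a.2 b.2⟩ =
      dualPiece 𝒜 ht htu i a * dualPiece 𝒜 ht htu j b := by
  simp only [dualPiece, AddMonoidHom.coe_mk, ZeroHom.coe_mk, resPiece_mul 𝒜 ht htu hnu a b]
  by_cases hi : (N : ℤ) ∣ i
  · apply TrivSqZeroExt.ext
    · simp
    · simp [Int.add_ediv_of_dvd_left hi]; ring
  · rw [resPiece_of_not 𝒜 ht htu hi]
    apply TrivSqZeroExt.ext <;> simp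

theorem dualPiece_one : dualPiece 𝒜 ht htu 0 ⟨1, SetLike.GradedOne.one_mem⟩ = 1 := by
  simp [dualPiece, resPiece_one]

/-- The residue map to first order along the torus. -/
noncomputable def χ₁ : R →+* DualNumber (ResidueField (GrLC.deg0 𝒜)) :=
  ofPieces 𝒜 (dualPiece 𝒜 ht htu) (dualPiece_one 𝒜 ht htu) (dualPiece_mul 𝒜 ht htu hnu)

theorem fst_χ₁ (x : R) : (χ₁ 𝒜 ht htu hnu x).fst = χ 𝒜 ht htu hnu x := by
  refine RingHom.congr_fun (ringHom_ext 𝒜 (φ := (TrivSqZeroExt.fstHom (ResidueField (GrLC.deg0 𝒜))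
    (ResidueField (GrLC.deg0 𝒜)) (ResidueField (GrLC.deg0 𝒜))).toRingHom.comp (χ₁ 𝒜 ht htu hnu))
    fun i a ha => ?_) x
  simp [χ, χ₁, ofPieces_apply 𝒜 _ _ _ ha, dualPiece]

theorem χ_deg0 (c : GrLC.deg0 𝒜) : χ 𝒜 ht htu hnu (c : R) = residue _ c := by
  rw [χ, ofPieces_apply 𝒜 _ _ _ (i := 0) c.2, resPiece_of_dvd 𝒜 ht htu (dvd_zero _)]
  exact congrArg _ (Subtype.ext (by simp))

theorem χ_t (hN : 0 < N) : χ 𝒜 ht htu hnu t = 1 := by
  rw [χ, ofPieces_apply 𝒜 _ _ _ ht, resPiece_of_dvd 𝒜 ht htu dvd_rfl, ← map_one (residue (GrLC.deg0 𝒜))]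
  refine congrArg _ (Subtype.ext ?_)
  simp [Int.ediv_self (show (N : ℤ) ≠ 0 by omega)]

theorem χ₁_t_sub_one (hN : 0 < N) : χ₁ 𝒜 ht htu hnu (t - 1) = TrivSqZeroExt.inr 1 := by
  have h : resPiece 𝒜 ht htu (N : ℤ) ⟨t, ht⟩ = 1 := by
    rw [← ofPieces_apply 𝒜 _ (resPiece_one 𝒜 ht htu) (resPiece_mul 𝒜 ht htu hnu) ht]
    exact χ_t 𝒜 ht htu hnu hN
  rw [map_sub, map_one, χ₁, ofPieces_apply 𝒜 _ _ _ ht]
  simp [dualPiece, h, Int.ediv_self (show (N : ℤ) ≠ 0 by omega)]

theorem χ_surjective : Function.Surjective (χ 𝒜 ht htu hnu) := fun y => by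
  obtain ⟨c, rfl⟩ := residue_surjective y
  exact ⟨c, χ_deg0 𝒜 ht htu hnu c⟩

variable (hN : 0 < N)

include ht htu hnu hN in
/-- `R/(t-1)` is local with maximal ideal the kernel of the residue map. -/
theorem eq_ker_of_isMaximal (Q : Ideal R) [Q.IsMaximal] (hQ : t - 1 ∈ Q) :
    Q = RingHom.ker (χ 𝒜 ht htu hnu) := by
  classical
  haveI : IsDomain (R ⧸ Q) := Ideal.Quotient.isDomain Q
  let π := Ideal.Quotient.mk Q
  have hπt : π t = 1 := by
    rw [← map_one π, Ideal.Quotient.eq]; exact hQ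
  have hπu : ∀ k : ℤ, π ((htu.unit ^ k : Rˣ) : R) = 1 := fun k => by
    have h1 : Units.map (π : R →* R ⧸ Q) htu.unit = 1 := Units.ext hπt
    have h2 := map_zpow (Units.map (π : R →* R ⧸ Q)) htu.unit k
    rw [h1, one_zpow] at h2
    exact congrArg Units.val h2
  letI : Algebra (GrLC.deg0 𝒜) (R ⧸ Q) := (π.comp (GrLC.deg0 𝒜).subtype).toAlgebra
  have hnorm : ∀ {i : ℤ} (h : (N : ℤ) ∣ i) (a : R) (ha : a ∈ 𝒜 i),
      π a = algebraMap (GrLC.deg0 𝒜) (R ⧸ Q) ⟨_, normalize_mem 𝒜 ht htu h ha⟩ := by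
    intro i h a ha
    show π a = π (a * _)
    rw [map_mul, hπu, mul_one]
  have hpow : ∀ {i : ℤ} (a : R), a ∈ 𝒜 i → a ^ N ∈ 𝒜 ((N : ℤ) * i) := fun a ha => by
    simpa using SetLike.pow_mem_graded N ha
  haveI : Algebra.IsIntegral (GrLC.deg0 𝒜) (R ⧸ Q) := by
    refine ⟨fun z => ?_⟩
    obtain ⟨x, rfl⟩ := Ideal.Quotient.mk_surjective z
    rw [← sum_support_decompose 𝒜 x, map_sum]
    refine IsIntegral.sum _ fun i _ => IsIntegral.of_pow hN ?_
    rw [← map_pow, hnorm (dvd_mul_right _ i) _ (hpow _ (decompose 𝒜 x i).2)]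
    exact isIntegral_algebraMap
  have hmax := eq_maximalIdeal (Ideal.isMaximal_comap_of_isIntegral_of_isMaximal (R := GrLC.deg0 𝒜)
    (S := R ⧸ Q) (⊥ : Ideal (R ⧸ Q)) (hI := (letI := Ideal.Quotient.field Q; Ideal.bot_isMaximal)))
  have hres : ∀ c : GrLC.deg0 𝒜, c ∈ maximalIdeal (GrLC.deg0 𝒜) → π (c : R) = 0 := fun c hc => by
    rw [← hmax, Ideal.mem_comap, Ideal.mem_bot] at hc
    exact hc
  refine ((RingHom.ker_isMaximal_of_surjective _ (χ_surjective 𝒜 ht htu hnu)).eq_of_le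
    (‹Q.IsMaximal›).ne_top fun x hx => ?_).symm
  rw [← Ideal.Quotient.eq_zero_iff_mem]
  change π x = 0
  rw [RingHom.mem_ker] at hx
  -- the sum of the normalised components lies in the maximal ideal of degree zero
  let c : ℤ → GrLC.deg0 𝒜 := fun i => if h : (N : ℤ) ∣ i then
    ⟨_, normalize_mem 𝒜 ht htu h (decompose 𝒜 x i).2⟩ else 0
  have h1 : ∀ i, π (decompose 𝒜 x i : R) = π (c i : R) := by
    intro i
    by_cases h : (N : ℤ) ∣ i
    · simp only [c, dif_pos h]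
      exact hnorm h _ (decompose 𝒜 x i).2
    · simp only [c, dif_neg h, ZeroMemClass.coe_zero, map_zero]
      have h2 : π ((decompose 𝒜 x i : R) ^ N) = 0 := by
        rw [hnorm (dvd_mul_right _ i) _ (hpow _ (decompose 𝒜 x i).2)]
        change π ((⟨_, normalize_mem 𝒜 ht htu (dvd_mul_right _ i) (hpow _ (decompose 𝒜 x i).2)⟩ : GrLC.deg0 𝒜) : R) = 0
        refine hres _ fun hu => hnu i h _ (decompose 𝒜 x i).2 ?_
        have hu' := hu.map (GrLC.deg0 𝒜).subtype
        simp only [Subring.subtype_apply] at hu'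
        exact (isUnit_pow_iff hN.ne').1 (isUnit_of_mul_isUnit_left hu')
      rw [map_pow] at h2
      exact pow_eq_zero_iff hN.ne' |>.1 h2
  have h3 : ∀ i, residue (GrLC.deg0 𝒜) (c i) = χ 𝒜 ht htu hnu (decompose 𝒜 x i : R) := by
    intro i
    rw [χ, ofPieces_apply 𝒜 _ _ _ (decompose 𝒜 x i).2]
    by_cases h : (N : ℤ) ∣ i
    · simp only [c, dif_pos h]; rw [resPiece_of_dvd 𝒜 ht htu h]
    · simp only [c, dif_neg h, map_zero]; rw [resPiece_of_not 𝒜 ht htu h]
  rw [← sum_support_decompose 𝒜 x, map_sum, Finset.sum_congr rfl fun i _ => h1 i, ← map_sum,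
    ← AddSubmonoidClass.coe_finsetSum]
  refine hres _ ((residue_eq_zero_iff _).1 ?_)
  rw [map_sum, Finset.sum_congr rfl fun i _ => h3 i, ← map_sum, sum_support_decompose 𝒜 x, hx]

include ht htu hnu hN in
/-- `R/(t-1)` is regular local when `R` is regular. -/
theorem isRegularLocalRing_quotient
    (hreg : ∀ (p : Ideal R) [p.IsPrime], IsRegularLocalRing (Localization.AtPrime p)) :
    IsRegularLocalRing (R ⧸ Ideal.span {t - 1}) := by
  classical
  let P : Ideal R := RingHom.ker (χ 𝒜 ht htu hnu)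
  haveI hPmax : P.IsMaximal := RingHom.ker_isMaximal_of_surjective _ (χ_surjective 𝒜 ht htu hnu)
  have htP : t - 1 ∈ P := by
    show χ 𝒜 ht htu hnu (t - 1) = 0
    rw [map_sub, map_one, χ_t 𝒜 ht htu hnu hN, sub_self]
  let Rp := Localization.AtPrime P
  haveI := hreg P
  let x : Rp := algebraMap R Rp (t - 1)
  have hx : x ∈ maximalIdeal Rp := by
    rw [← Localization.AtPrime.map_eq_maximalIdeal]
    exact Ideal.mem_map_of_mem _ htP
  have hP2 : ∀ y ∈ P ^ 2, χ₁ 𝒜 ht htu hnu y = 0 := by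
    intro y hy
    rw [pow_two] at hy
    induction hy using Submodule.mul_induction_on' with
    | mem_mul_mem a ha b hb =>
      have ha' : (χ₁ 𝒜 ht htu hnu a).fst = 0 := (fst_χ₁ 𝒜 ht htu hnu a).trans ha
      have hb' : (χ₁ 𝒜 ht htu hnu b).fst = 0 := (fst_χ₁ 𝒜 ht htu hnu b).trans hb
      rw [map_mul]
      apply TrivSqZeroExt.ext <;> simp [ha', hb']
    | add a _ b _ ha hb => rw [map_add, ha, hb, add_zero]
  have hx2 : x ∉ maximalIdeal Rp ^ 2 := by
    rw [← Localization.AtPrime.map_eq_maximalIdeal, ← Ideal.map_pow]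
    intro hmem
    obtain ⟨s, hs, hst⟩ := (IsLocalization.algebraMap_mem_map_algebraMap_iff P.primeCompl Rp _ _).1 hmem
    have h := hP2 _ hst
    rw [map_mul, χ₁_t_sub_one 𝒜 ht htu hnu hN] at h
    have h' := congrArg TrivSqZeroExt.snd h
    simp only [TrivSqZeroExt.snd_mul, TrivSqZeroExt.snd_inr, TrivSqZeroExt.fst_inr,
      TrivSqZeroExt.snd_zero, smul_eq_mul, mul_one, smul_zero, add_zero] at h'
    simp only [MulOpposite.op_zero, zero_smul, add_zero] at h'
    exact hs ((fst_χ₁ 𝒜 ht htu hnu s).symm.trans h')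
  haveI hq := (RegLoc6.isRegularLocalRing_quot_and hx hx2).1
  -- the comparison map
  have hunit : ∀ s : P.primeCompl, IsUnit (Ideal.Quotient.mk (Ideal.span {t - 1}) (s : R)) := by
    intro s
    by_contra hnu'
    obtain ⟨M, hM, hsM⟩ := exists_max_ideal_of_mem_nonunits hnu'
    haveI : (M.comap (Ideal.Quotient.mk (Ideal.span {t - 1}))).IsMaximal :=
      Ideal.comap_isMaximal_of_surjective _ Ideal.Quotient.mk_surjective
    have he := eq_ker_of_isMaximal 𝒜 ht htu hnu hN (M.comap (Ideal.Quotient.mk (Ideal.span {t - 1}))) (by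
      rw [Ideal.mem_comap, Ideal.Quotient.eq_zero_iff_mem.2 (Ideal.mem_span_singleton_self _)]
      exact zero_mem _)
    exact s.2 ((le_of_eq he : M.comap (Ideal.Quotient.mk (Ideal.span {t - 1})) ≤ P) hsM)
  let ψ : Rp →+* R ⧸ Ideal.span {t - 1} := IsLocalization.lift hunit
  have hψs : Function.Surjective ψ := fun y => by
    obtain ⟨r, rfl⟩ := Ideal.Quotient.mk_surjective y
    exact ⟨algebraMap R Rp r, IsLocalization.lift_eq _ _⟩
  have hker : RingHom.ker ψ = Ideal.span {x} := by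
    refine le_antisymm (fun z hz => ?_) ?_
    · obtain ⟨r, s, rfl⟩ := IsLocalization.exists_mk'_eq P.primeCompl z
      rw [RingHom.mem_ker, IsLocalization.lift_mk'_spec, mul_zero, Ideal.Quotient.eq_zero_iff_mem] at hz
      rw [IsLocalization.mk'_eq_mul_mk'_one]
      refine Ideal.mul_mem_right _ _ ?_
      obtain ⟨w, hw⟩ := Ideal.mem_span_singleton'.1 hz
      exact Ideal.mem_span_singleton'.2 ⟨algebraMap R Rp w, by rw [← hw, map_mul]⟩
    · rw [Ideal.span_le, Set.singleton_subset_iff]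
      show ψ x = 0
      rw [IsLocalization.lift_eq, Ideal.Quotient.eq_zero_iff_mem]
      exact Ideal.mem_span_singleton_self _
  exact IsRegularLocalRing.of_ringEquiv
    ((Ideal.quotEquivOfEq hker.symm).trans (RingHom.quotientKerEquivOfSurjective hψs))

section Root

open LaurentPolynomial

local notation "C'" => R ⧸ Ideal.span {t - 1}
local notation "S'" => AdjoinRoot (Polynomial.X ^ N - Polynomial.C t)

omit [IsLocalRing (GrLC.deg0 𝒜)]

include ht htu hN in
/-- `R[U]/(U^N - t)` is the Laurent polynomial ring over `R/(t - 1)`. -/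
theorem nonempty_root_equiv :
    Nonempty (LaurentPolynomial (R ⧸ Ideal.span {t - 1}) ≃+* AdjoinRoot (Polynomial.X ^ N - Polynomial.C t)) := by
  let π := Ideal.Quotient.mk (Ideal.span {t - 1})
  let f : ∀ i, 𝒜 i →+ LaurentPolynomial C' := fun i =>
    { toFun := fun a => C (π a) * T i
      map_zero' := by simp
      map_add' := fun a b => by simp [add_mul] }
  let φ₀ : R →+* LaurentPolynomial C' := ofPieces 𝒜 f (by simp [f]) (fun {i j} a b => by
    simp only [f, AddMonoidHom.coe_mk, ZeroHom.coe_mk, map_mul, T_add]; ring)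
  have hφ₀ : ∀ {i} {a : R}, a ∈ 𝒜 i → φ₀ a = C (π a) * T i := fun {i a} ha => ofPieces_apply 𝒜 _ _ _ ha
  have hπt : π t = 1 := by
    rw [← map_one π, Ideal.Quotient.eq]; exact Ideal.mem_span_singleton_self _
  let φ : S' →+* LaurentPolynomial C' := AdjoinRoot.lift φ₀ (T 1) (by
    simp [Polynomial.eval₂_sub, hφ₀ ht, hπt, T_pow])
  let U : S' := AdjoinRoot.root (Polynomial.X ^ N - Polynomial.C t)
  let ι : R →+* S' := AdjoinRoot.of (Polynomial.X ^ N - Polynomial.C t)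
  have hUN : U ^ N = ι t := by
    have h := AdjoinRoot.eval₂_root (Polynomial.X ^ N - Polynomial.C t)
    rw [Polynomial.eval₂_sub, Polynomial.eval₂_X_pow, Polynomial.eval₂_C, sub_eq_zero] at h
    exact h
  have hUu : IsUnit U := (isUnit_pow_iff hN.ne').1 (hUN ▸ htu.map ι)
  let g : ∀ i, 𝒜 i →+ S' := fun i =>
    { toFun := fun a => ι a * ((hUu.unit ^ (-i) : (S')ˣ) : S')
      map_zero' := by simp
      map_add' := fun a b => by simp [add_mul] }
  let ψ₀ : R →+* S' := ofPieces 𝒜 g (by simp [g]) (fun {i j} a b => by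
    simp only [g, AddMonoidHom.coe_mk, ZeroHom.coe_mk, map_mul, neg_add, zpow_add, Units.val_mul]; ring)
  have hψ₀ : ∀ {i} {a : R}, a ∈ 𝒜 i → ψ₀ a = ι a * ((hUu.unit ^ (-i) : (S')ˣ) : S') :=
    fun {i a} ha => ofPieces_apply 𝒜 _ _ _ ha
  have hψt : ψ₀ t = 1 := by
    rw [hψ₀ ht, ← hUN, zpow_neg, zpow_natCast]
    have : U ^ N = ((hUu.unit ^ N : (S')ˣ) : S') := by rw [Units.val_pow_eq_pow_val, IsUnit.unit_spec]
    rw [this, Units.mul_inv]
  let ψ : LaurentPolynomial C' →+* S' := LaurentPolynomial.eval₂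
    (Ideal.Quotient.lift (Ideal.span {t - 1}) ψ₀ (fun a ha => by
      obtain ⟨w, rfl⟩ := Ideal.mem_span_singleton'.1 ha
      simp [hψt])) hUu.unit
  have hψC : ∀ r, ψ (C (π r)) = ψ₀ r := fun r => by simp [ψ, π]
  have hψT : ∀ i, ψ (T i) = ((hUu.unit ^ i : (S')ˣ) : S') := fun i => by simp [ψ]
  have hφU : φ U = T 1 := AdjoinRoot.lift_root _
  have hφι : ∀ r, φ (ι r) = φ₀ r := fun r => AdjoinRoot.lift_of _
  have hφu : ∀ i : ℤ, φ ((hUu.unit ^ i : (S')ˣ) : S') = T i := by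
    intro i
    induction i using Int.induction_on with
    | zero => simp
    | succ i ih => rw [zpow_add_one, Units.val_mul, map_mul, ih, IsUnit.unit_spec, hφU, ← T_add]
    | pred i ih =>
      have h : φ ((hUu.unit ^ (-(i : ℤ) - 1) : (S')ˣ) : S') * T 1 = T (-(i : ℤ)) := by
        rw [← hφU, ← map_mul, ← ih]
        congr 1
        rw [show ((hUu.unit ^ (-(i : ℤ) - 1) : (S')ˣ) : S') * U =
          ((hUu.unit ^ (-(i : ℤ) - 1) * hUu.unit : (S')ˣ) : S') from rfl, ← zpow_add_one, sub_add_cancel]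
      have h2 := congrArg (· * T (-1)) h
      simp only [mul_assoc, ← T_add] at h2
      simpa [← sub_eq_add_neg] using h2
  have h1 : ψ.comp φ = RingHom.id S' := by
    refine AdjoinRoot.ringHom_ext (ringHom_ext 𝒜 fun i a ha => ?_) ?_
    · show ψ (φ (ι a)) = ι a
      rw [hφι, hφ₀ ha, map_mul, hψC, hψT, hψ₀ ha, mul_assoc, ← Units.val_mul, ← zpow_add, neg_add_cancel,
        zpow_zero, Units.val_one, mul_one]
    · show ψ (φ U) = U
      rw [hφU, hψT, zpow_one, IsUnit.unit_spec]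
  have h2 : φ.comp ψ = RingHom.id (LaurentPolynomial C') := by
    have hC : (φ.comp ψ).comp C = (C : C' →+* LaurentPolynomial C') := by
      refine Ideal.Quotient.ringHom_ext (ringHom_ext 𝒜 fun i a ha => ?_)
      show φ (ψ (C (π a))) = C (π a)
      rw [hψC, hψ₀ ha, map_mul, hφι, hφ₀ ha, hφu, mul_assoc, ← T_add, add_neg_cancel, T_zero, mul_one]
    refine RingHom.ext fun p => ?_
    induction p using LaurentPolynomial.induction_on' with
    | add p q hp hq => rw [map_add, map_add, hp, hq]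
    | C_mul_T n a =>
      rw [map_mul, map_mul, show (φ.comp ψ) (C a) = C a from RingHom.congr_fun hC a,
        show (φ.comp ψ) (T n) = T n by rw [RingHom.comp_apply, hψT, hφu]]
      rfl
  exact ⟨RingEquiv.ofRingHom ψ φ h1 h2⟩

end Root

/-- A localization of a regular ring is regular. -/
theorem isRegularRing_of_isLocalization {A B : Type u} [CommRing A] [CommRing B] [Algebra A B] (M : Submonoid A)
    [IsLocalization M B] [IsRegularRing A] : IsRegularRing B := by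
  haveI : IsNoetherianRing B := IsLocalization.isNoetherianRing M B inferInstance
  refine isRegularRing_iff.2 fun q _ => ?_
  haveI : IsLocalization.AtPrime (Localization.AtPrime q) (q.comap (algebraMap A B)) :=
    IsLocalization.isLocalization_isLocalization_atPrime_isLocalization M (Localization.AtPrime q) q
  exact IsRegularLocalRing.of_ringEquiv
    (IsLocalization.algEquiv (q.comap (algebraMap A B)).primeCompl (Localization.AtPrime (q.comap (algebraMap A B)))
      (Localization.AtPrime q)).toRingEquiv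

end Groth.Agent.GrUnit
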